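import Mathlib
import Groth.Agent.Lib.Helper2.FibDim.QfCodimOne

set_option linter.style.haveILetI false
set_option linter.unusedVariables false
set_option linter.unusedSectionVars false
set_option autoImplicit false
set_option backward.isDefEq.respectTransparency.types false

universe u

/-! helper7: quasi-finiteness at points over a point of codimension at most one with Noetherian local ring (reduction to the spectrum of the local ring) -/

namespace Groth.Agent.Helper7.QFCodim

open CategoryTheory CategoryTheory.Limits AlgebraicGeometry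

/-- quasi-finiteness at a point means being isolated in the fibre -/
theorem quasiFiniteAt_iff_isolated {X Y : Scheme.{u}} (f : X ⟶ Y) [LocallyOfFiniteType f]
    (x : X) : f.QuasiFiniteAt x ↔
      ∃ O : Set X, IsOpen O ∧ O ∩ f.base ⁻¹' {f.base x} = {x} := by
  have hqf : f.QuasiFiniteAt x ↔
      IsOpen ({⟨x, Set.mem_singleton (f.base x)⟩} : Set ↥(f.base ⁻¹' {f.base x})) := by
    rw [Scheme.Hom.quasiFiniteAt_iff_isOpen_singleton_asFiber,
      ← (f.fiberHomeo (f x)).isOpen_image]
    simp only [Set.image_singleton, Scheme.Hom.asFiber, Homeomorph.apply_symm_apply]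
  rw [hqf]
  constructor
  · intro h
    obtain ⟨O, hO, hOe⟩ := isOpen_induced_iff.mp h
    refine ⟨O, hO, ?_⟩
    ext z
    constructor
    · rintro ⟨hzO, hzS⟩
      have h1 : (⟨z, hzS⟩ : ↥(f.base ⁻¹' {f.base x})) ∈ Subtype.val ⁻¹' O := hzO
      rw [hOe] at h1
      exact congrArg Subtype.val h1
    · rintro rfl
      have h1 : (⟨z, Set.mem_singleton (f.base z)⟩ : ↥(f.base ⁻¹' {f.base z})) ∈
          Subtype.val ⁻¹' O := by
        rw [hOe]
        rfl
      exact ⟨h1, rfl⟩
  · rintro ⟨O, hO, hOe⟩
    have h2 : ({⟨x, Set.mem_singleton (f.base x)⟩} : Set ↥(f.base ⁻¹' {f.base x})) =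
        Subtype.val ⁻¹' O := by
      ext z
      constructor
      · rintro rfl
        have : x ∈ O ∩ f.base ⁻¹' {f.base x} := by rw [hOe]; rfl
        exact this.1
      · intro hz
        have h3 : z.1 ∈ O ∩ f.base ⁻¹' {f.base x} := ⟨hz, z.2⟩
        rw [hOe] at h3
        exact Subtype.ext h3
    rw [h2]
    exact hO.preimage continuous_subtype_val

section BaseChange

variable {X Y V : Scheme.{u}} (f : X ⟶ Y) [LocallyOfFiniteType f] (g : V ⟶ Y)

/-- quasi-finiteness at a point passes to a base change along a morphism whose base change is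
injective -/
theorem quasiFiniteAt_snd_of_fst (hinj : Function.Injective (pullback.fst f g).base)
    (u : ↑(pullback f g))
    (h : f.QuasiFiniteAt ((pullback.fst f g).base u)) : (pullback.snd f g).QuasiFiniteAt u := by
  rw [quasiFiniteAt_iff_isolated] at h ⊢
  obtain ⟨O, hO, hOe⟩ := h
  refine ⟨(pullback.fst f g).base ⁻¹' O, hO.preimage (pullback.fst f g).continuous, ?_⟩
  ext z
  constructor
  · rintro ⟨hzO, hzS⟩
    have h1 : (pullback.fst f g).base z ∈ O ∩ f.base ⁻¹' {f.base ((pullback.fst f g).base u)} := by
      refine ⟨hzO, ?_⟩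
      show f.base ((pullback.fst f g).base z) = f.base ((pullback.fst f g).base u)
      have e1 : f.base ((pullback.fst f g).base z) = g.base ((pullback.snd f g).base z) := by
        rw [← Scheme.Hom.comp_apply, ← Scheme.Hom.comp_apply, pullback.condition]
      have e2 : f.base ((pullback.fst f g).base u) = g.base ((pullback.snd f g).base u) := by
        rw [← Scheme.Hom.comp_apply, ← Scheme.Hom.comp_apply, pullback.condition]
      rw [e1, e2]
      exact congrArg g.base hzS
    rw [hOe] at h1
    exact hinj h1
  · rintro rfl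
    have h1 : (pullback.fst f g).base z ∈ O ∩ f.base ⁻¹' {f.base ((pullback.fst f g).base z)} := by
      rw [hOe]; rfl
    exact ⟨h1.1, rfl⟩

/-- quasi-finiteness at a point descends along a base change which is a topological embedding -/
theorem quasiFiniteAt_fst_of_snd (hemb : Topology.IsEmbedding (pullback.fst f g).base)
    (u : ↑(pullback f g))
    (h : (pullback.snd f g).QuasiFiniteAt u) : f.QuasiFiniteAt ((pullback.fst f g).base u) := by
  rw [quasiFiniteAt_iff_isolated] at h ⊢
  obtain ⟨O, hO, hOe⟩ := h
  obtain ⟨O', hO', rfl⟩ := hemb.isInducing.isOpen_iff.mp hO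
  refine ⟨O', hO', ?_⟩
  ext x'
  constructor
  · rintro ⟨hxO, hxS⟩
    have hxS' : f.base x' = f.base ((pullback.fst f g).base u) := hxS
    have e2 : f.base ((pullback.fst f g).base u) = g.base ((pullback.snd f g).base u) := by
      rw [← Scheme.Hom.comp_apply, ← Scheme.Hom.comp_apply, pullback.condition]
    obtain ⟨u', hu'1, hu'2⟩ := Scheme.Pullback.exists_preimage_pullback (f := f) (g := g) x'
      ((pullback.snd f g).base u) (hxS'.trans e2)
    have h1 : u' ∈ (pullback.fst f g).base ⁻¹' O' ∩
        (pullback.snd f g).base ⁻¹' {(pullback.snd f g).base u} := by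
      refine ⟨?_, hu'2⟩
      show (pullback.fst f g).base u' ∈ O'
      rw [hu'1]
      exact hxO
    rw [hOe] at h1
    have h2 : u' = u := h1
    rw [← hu'1, h2]
    rfl
  · rintro rfl
    have h1 : u ∈ (pullback.fst f g).base ⁻¹' O' ∩
        (pullback.snd f g).base ⁻¹' {(pullback.snd f g).base u} := by
      rw [hOe]; rfl
    exact ⟨h1.1, rfl⟩

end BaseChange

/-- the local rings of the spectrum of a ring have dimension at most that of the ring -/
theorem ringKrullDim_stalk_Spec_le (R : CommRingCat.{u}) (v : Spec R) :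
    ringKrullDim ((Spec R).presheaf.stalk v) ≤ ringKrullDim R := by
  have e : (Spec R).presheaf.stalk v ≃+* Localization.AtPrime v.asIdeal :=
    (StructureSheaf.stalkIso R v).symm.toRingEquiv
  rw [ringKrullDim_eq_of_ringEquiv e, IsLocalization.AtPrime.ringKrullDim_eq_height v.asIdeal]
  exact Ideal.height_le_ringKrullDim_of_ne_top v.2.ne_top

/-- Let `f` be locally of finite type and `y` a point of the target whose local ring is Noetherian
of dimension at most one. If `f` is quasi-finite at the generic points of the irreducible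
components of the source, then it is quasi-finite at all points over `y`. -/
theorem quasiFiniteAt_of_stalk_dim_le_one {X Y : Scheme.{u}} (f : X ⟶ Y) [LocallyOfFiniteType f]
    (y : Y) [IsNoetherianRing (Y.presheaf.stalk y)] (hy : ringKrullDim (Y.presheaf.stalk y) ≤ 1)
    (hgen : ∀ ξ : X, (∀ t : X, t ⤳ ξ → t = ξ) → f.QuasiFiniteAt ξ)
    (x : X) (hx : f.base x = y) : f.QuasiFiniteAt x := by
  let g : Spec (Y.presheaf.stalk y) ⟶ Y := Y.fromSpecStalk y
  have hemb : Topology.IsEmbedding (pullback.fst f g).base := (pullback.fst f g).isEmbedding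
  have hg0 : g.base (IsLocalRing.closedPoint (Y.presheaf.stalk y)) = y :=
    Scheme.fromSpecStalk_closedPoint
  obtain ⟨u, hu1, hu2⟩ := Scheme.Pullback.exists_preimage_pullback (f := f) (g := g) x
    (IsLocalRing.closedPoint (Y.presheaf.stalk y)) (hx.trans hg0.symm)
  rw [← hu1]
  apply quasiFiniteAt_fst_of_snd f g hemb u
  apply Groth.Agent.Helper2.FibDim.quasiFiniteAt_of_codim_le_one (pullback.snd f g) u
    ((ringKrullDim_stalk_Spec_le _ _).trans hy)
  intro ξ hξ _
  apply Groth.Agent.Helper2.FibDim.resTrdeg_eq_zero_of_quasiFiniteAt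
  apply quasiFiniteAt_snd_of_fst f g hemb.injective ξ
  apply hgen
  -- maximality of the image of `ξ`
  have hξmax : ∀ u' : ↑(pullback f g), u' ⤳ ξ → u' = ξ := by
    intro u' hu'
    have h1 : closure ({ξ} : Set ↑(pullback f g)) ⊆ closure {u'} :=
      hu'.closure_subset
    have h2 : IsIrreducible (closure ({u'} : Set ↑(pullback f g))) :=
      isIrreducible_singleton.closure
    have h3 : closure ({u'} : Set ↑(pullback f g)) ⊆ closure {ξ} := hξ.2 h2 h1
    have h4 : closure ({u'} : Set ↑(pullback f g)) = closure {ξ} := le_antisymm h3 h1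
    have g1 : IsGenericPoint u' (closure ({ξ} : Set ↑(pullback f g))) := h4
    have g2 : IsGenericPoint ξ (closure ({ξ} : Set ↑(pullback f g))) := rfl
    exact g1.eq g2
  intro t ht
  -- `f t` is a generization of a point in the range of `g`
  have e1 : f.base ((pullback.fst f g).base ξ) = g.base ((pullback.snd f g).base ξ) := by
    rw [← Scheme.Hom.comp_apply, ← Scheme.Hom.comp_apply, pullback.condition]
  have h1 : f.base t ⤳ g.base ((pullback.snd f g).base ξ) := by
    rw [← e1]
    exact ht.map f.continuous
  have h2 : g.base ((pullback.snd f g).base ξ) ∈ Set.range g.base := ⟨_, rfl⟩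
  have h3 : f.base t ∈ Set.range g.base := by
    rw [Scheme.range_fromSpecStalk] at h2 ⊢
    exact h1.trans h2
  obtain ⟨v, hv⟩ := h3
  obtain ⟨u', hu'1, hu'2⟩ := Scheme.Pullback.exists_preimage_pullback (f := f) (g := g) t v hv.symm
  have h4 : u' ⤳ ξ := hemb.isInducing.specializes_iff.mp (by rw [hu'1]; exact ht)
  rw [← hu'1, hξmax u' h4]

end Groth.Agent.Helper7.QFCodim
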